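import Mathlib

set_option autoImplicit false
universe v u

namespace Groth.Agent.Lib.Helper2.IndCof

open CategoryTheory CategoryTheory.Limits

section Abstract
variable {𝒜 : Type u} [Category.{v} 𝒜] [Abelian 𝒜]

/-- membership in a subobject is local for refinements -/
lemma factors_of_epi_comp {A T T' : 𝒜} (S : Subobject A) (π : T' ⟶ T) [Epi π] (x : T ⟶ A)
    (h : S.Factors (π ≫ x)) : S.Factors x := by
  haveI : StrongEpi π := strongEpi_of_epi π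
  have sq : CommSq (S.factorThru (π ≫ x) h) π S.arrow x := ⟨by simp⟩
  have : x = sq.lift ≫ S.arrow := sq.fac_right.symm
  rw [this]
  exact S.factors_comp_arrow _

lemma image_factors_iff {A B T : 𝒜} (f : A ⟶ B) (x : T ⟶ B) :
    (imageSubobject f).Factors x ↔
      ∃ (T' : 𝒜) (π : T' ⟶ T) (_ : Epi π) (y : T' ⟶ A), π ≫ x = y ≫ f := by
  constructor
  · intro h
    obtain ⟨T', π, hπ, y, hy⟩ := surjective_up_to_refinements_of_epi
      (factorThruImageSubobject f) ((imageSubobject f).factorThru x h)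
    refine ⟨T', π, hπ, y, ?_⟩
    have := congrArg (· ≫ (imageSubobject f).arrow) hy
    simpa using this
  · rintro ⟨T', π, hπ, y, hy⟩
    apply factors_of_epi_comp _ π
    rw [hy]
    exact imageSubobject_factors_comp_self f y

lemma le_of_forall_factors {A : 𝒜} (S S' : Subobject A)
    (h : ∀ (T : 𝒜) (x : T ⟶ A), S.Factors x → S'.Factors x) : S ≤ S' := by
  have := h _ S.arrow (by simpa using S.factors_comp_arrow (𝟙 _))
  exact Subobject.le_of_comm (S'.factorThru _ this) (by simp)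

lemma factors_nsmul {A T : 𝒜} (S : Subobject A) (k : ℕ) (x : T ⟶ A) (h : S.Factors x) :
    S.Factors (k • x) := by
  have : k • x = (k • 𝟙 T) ≫ x := by simp [Preadditive.nsmul_comp]
  rw [this]
  exact Subobject.factors_of_factors_right _ h

lemma factors_sub {A T : 𝒜} (S : Subobject A) (x y : T ⟶ A) (hx : S.Factors x) (hy : S.Factors y) :
    S.Factors (x - y) := by
  have : x - y = (S.factorThru x hx - S.factorThru y hy) ≫ S.arrow := by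
    simp [Preadditive.sub_comp]
  rw [this]
  exact S.factors_comp_arrow _

lemma comp_nsmul_id {A T : 𝒜} (k : ℕ) (x : T ⟶ A) : x ≫ (k • 𝟙 A) = k • x := by
  simp [Preadditive.comp_nsmul]

/-- lift an element killed by `k` to the `k`-torsion -/
noncomputable def torLift {A T : 𝒜} (k : ℕ) (x : T ⟶ A) (h : k • x = 0) :
    T ⟶ kernel (k • 𝟙 A) :=
  kernel.lift _ x (by rw [comp_nsmul_id, h])

@[reassoc (attr := simp)]
lemma torLift_ι {A T : 𝒜} (k : ℕ) (x : T ⟶ A) (h : k • x = 0) :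
    torLift k x h ≫ kernel.ι (k • 𝟙 A) = x := by
  simp [torLift]

lemma nsmul_torι {A : 𝒜} (k : ℕ) : k • kernel.ι (k • 𝟙 A) = 0 := by
  have := kernel.condition (k • 𝟙 A)
  rwa [comp_nsmul_id] at this

lemma nsmul_comp_torι {A T : 𝒜} (k : ℕ) (x : T ⟶ kernel (k • 𝟙 A)) :
    k • (x ≫ kernel.ι (k • 𝟙 A)) = 0 := by
  rw [← Preadditive.comp_nsmul, nsmul_torι, comp_zero]

/-- `K_{b^(m+1)} ⊆ K_{b^m} + b K_{b^(m+2)}` -/
def P1 (A : 𝒜) (b m : ℕ) : Prop :=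
  ∀ ⦃T : 𝒜⦄ (x : T ⟶ A), b ^ (m + 1) • x = 0 →
    ∃ (T' : 𝒜) (π : T' ⟶ T) (_ : Epi π) (z : T' ⟶ A),
      b ^ m • (π ≫ x) = b ^ (m + 1) • z ∧ b ^ (m + 1 + 1) • z = 0

lemma Pn (A : 𝒜) (b m₀ : ℕ) (h1 : ∀ m, m₀ ≤ m → P1 A b m) :
    ∀ (n m : ℕ), m₀ ≤ m → ∀ ⦃T : 𝒜⦄ (x : T ⟶ A), b ^ (m + 1) • x = 0 →
      ∃ (T' : 𝒜) (π : T' ⟶ T) (_ : Epi π) (z : T' ⟶ A),
        b ^ m • (π ≫ x) = b ^ (m + n) • z := by
  intro n
  induction n with
  | zero =>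
    intro m _ T x _
    exact ⟨T, 𝟙 T, inferInstance, x, by simp⟩
  | succ n ih =>
    intro m hm T x hx
    obtain ⟨T₁, π₁, _, z₁, h₁, h₂⟩ := h1 m hm x hx
    obtain ⟨T₂, π₂, _, z₂, h₃⟩ := ih (m + 1) (by omega) z₁ h₂
    refine ⟨T₂, π₂ ≫ π₁, epi_comp _ _, z₂, ?_⟩
    rw [Category.assoc, ← Preadditive.comp_nsmul, h₁, Preadditive.comp_nsmul, h₃]
    congr 2
    omega

lemma Qmn (A : 𝒜) (b m₀ : ℕ) (h1 : ∀ m, m₀ ≤ m → P1 A b m) (n : ℕ) :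
    ∀ (m : ℕ), m₀ ≤ m → ∀ ⦃T : 𝒜⦄ (x : T ⟶ A), b ^ m • x = 0 →
      ∃ (T' : 𝒜) (π : T' ⟶ T) (_ : Epi π) (z : T' ⟶ A),
        b ^ m₀ • (π ≫ x) = b ^ (m₀ + n) • z := by
  intro m hm
  induction m, hm using Nat.le_induction with
  | base =>
    intro T x hx
    exact ⟨T, 𝟙 T, inferInstance, 0, by simp [hx]⟩
  | succ m hm ih =>
    intro T x hx
    obtain ⟨T₁, π₁, _, z₁, h₁⟩ := Pn A b m₀ h1 n m hm x hx
    have hx' : b ^ m • (π₁ ≫ x - b ^ n • z₁) = 0 := by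
      rw [smul_sub, h₁, ← mul_smul, ← pow_add, sub_self]
    obtain ⟨T₂, π₂, _, z₂, h₂⟩ := ih _ hx'
    refine ⟨T₂, π₂ ≫ π₁, epi_comp _ _, z₂ + π₂ ≫ z₁, ?_⟩
    have : (π₂ ≫ π₁) ≫ x = π₂ ≫ (π₁ ≫ x - b ^ n • z₁) + b ^ n • (π₂ ≫ z₁) := by
      simp [Preadditive.comp_sub, Preadditive.comp_nsmul]
    rw [this, smul_add, h₂, ← mul_smul, ← pow_add, smul_add]

/-- the transition map `b^m : K_{b^(m+1)} ⟶ K_{b^1}` -/
noncomputable def uMap (A : 𝒜) (b m : ℕ) :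
    kernel (b ^ (m + 1) • 𝟙 A) ⟶ kernel (b ^ 1 • 𝟙 A) :=
  torLift (b ^ 1) (b ^ m • kernel.ι (b ^ (m + 1) • 𝟙 A)) (by
    rw [← mul_smul, ← pow_add, add_comm 1 m, nsmul_torι])

@[reassoc (attr := simp)]
lemma uMap_ι (A : 𝒜) (b m : ℕ) :
    uMap A b m ≫ kernel.ι (b ^ 1 • 𝟙 A) = b ^ m • kernel.ι (b ^ (m + 1) • 𝟙 A) := by
  simp [uMap]

lemma image_uMap_succ_le (A : 𝒜) (b m : ℕ) :
    imageSubobject (uMap A b (m + 1)) ≤ imageSubobject (uMap A b m) := by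
  let w : kernel (b ^ (m + 1 + 1) • 𝟙 A) ⟶ kernel (b ^ (m + 1) • 𝟙 A) :=
    torLift (b ^ (m + 1)) (b • kernel.ι (b ^ (m + 1 + 1) • 𝟙 A)) (by
      rw [← mul_smul, ← pow_succ, nsmul_torι])
  have hw : uMap A b (m + 1) = w ≫ uMap A b m := by
    rw [← cancel_mono (kernel.ι (b ^ 1 • 𝟙 A))]
    simp only [uMap_ι, Category.assoc, Preadditive.comp_nsmul, w, torLift_ι]
    rw [← mul_smul, ← pow_succ]
  rw [hw]
  exact imageSubobject_comp_le _ _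

lemma image_uMap_antitone (A : 𝒜) (b : ℕ) :
    Antitone (fun m => imageSubobject (uMap A b m)) :=
  antitone_nat_of_succ_le (image_uMap_succ_le A b)

lemma P1_of_image_eq (A : 𝒜) (b m : ℕ)
    (h : imageSubobject (uMap A b (m + 1)) = imageSubobject (uMap A b m)) : P1 A b m := by
  intro T x hx
  have hf : (imageSubobject (uMap A b m)).Factors (torLift _ x hx ≫ uMap A b m) :=
    imageSubobject_factors_comp_self _ _
  rw [← h, image_factors_iff] at hf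
  obtain ⟨T', π, hπ, y, hy⟩ := hf
  refine ⟨T', π, hπ, y ≫ kernel.ι _, ?_, nsmul_comp_torι _ _⟩
  have := congrArg (· ≫ kernel.ι (b ^ 1 • 𝟙 A)) hy
  simpa [Preadditive.comp_nsmul] using this

/-- `A = K_{b^N} + b^n A` for all `n`, on generalized elements -/
def IsStab (A : 𝒜) (b N : ℕ) : Prop :=
  ∀ (n : ℕ) ⦃T : 𝒜⦄ (a : T ⟶ A),
    ∃ (T' : 𝒜) (π : T' ⟶ T) (_ : Epi π) (a₀ z : T' ⟶ A),
      π ≫ a = a₀ + b ^ n • z ∧ b ^ N • a₀ = 0

lemma IsStab.image_eq {A : 𝒜} {b N : ℕ} (h : IsStab A b N) (n : ℕ) :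
    imageSubobject (b ^ (N + n) • 𝟙 A) = imageSubobject (b ^ N • 𝟙 A) := by
  apply le_antisymm
  · have : b ^ (N + n) • 𝟙 A = (b ^ n • 𝟙 A) ≫ (b ^ N • 𝟙 A) := by
      rw [comp_nsmul_id, ← mul_smul, ← pow_add]
    rw [this]
    exact imageSubobject_comp_le _ _
  · apply le_of_forall_factors
    intro T x hx
    rw [image_factors_iff] at hx ⊢
    obtain ⟨T₁, π₁, _, y, hy⟩ := hx
    obtain ⟨T₂, π₂, _, a₀, z, h₁, h₂⟩ := h n y
    refine ⟨T₂, π₂ ≫ π₁, epi_comp _ _, z, ?_⟩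
    rw [Category.assoc, hy, comp_nsmul_id, comp_nsmul_id, Preadditive.comp_nsmul, h₁, smul_add,
      h₂, zero_add, ← mul_smul, ← pow_add]

/-- the map `b^n : K_{b^(N+n)} ⟶ K_{b^N}` -/
noncomputable def rMap (A : 𝒜) (b N n : ℕ) :
    kernel (b ^ (N + n) • 𝟙 A) ⟶ kernel (b ^ N • 𝟙 A) :=
  torLift (b ^ N) (b ^ n • kernel.ι (b ^ (N + n) • 𝟙 A)) (by
    rw [← mul_smul, ← pow_add, nsmul_torι])

@[reassoc (attr := simp)]
lemma rMap_ι (A : 𝒜) (b N n : ℕ) :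
    rMap A b N n ≫ kernel.ι (b ^ N • 𝟙 A) = b ^ n • kernel.ι (b ^ (N + n) • 𝟙 A) := by
  simp [rMap]

lemma nsmul_comp_cokernel_π {A T : 𝒜} (k : ℕ) (z : T ⟶ A) :
    (k • z) ≫ cokernel.π (k • 𝟙 A) = 0 := by
  have : k • z = z ≫ (k • 𝟙 A) := (comp_nsmul_id _ _).symm
  rw [this, Category.assoc, cokernel.condition, comp_zero]

lemma rMap_comp_zero (A : 𝒜) (b N n : ℕ) :
    rMap A b N n ≫ kernel.ι (b ^ N • 𝟙 A) ≫ cokernel.π (b ^ n • 𝟙 A) = 0 := by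
  rw [rMap_ι_assoc, nsmul_comp_cokernel_π]

lemma IsStab.epi {A : 𝒜} {b N : ℕ} (h : IsStab A b N) (n : ℕ) :
    Epi (kernel.ι (b ^ N • 𝟙 A) ≫ cokernel.π (b ^ n • 𝟙 A)) := by
  rw [epi_iff_surjective_up_to_refinements]
  intro T y
  obtain ⟨T₁, π₁, _, a, ha⟩ := surjective_up_to_refinements_of_epi (cokernel.π (b ^ n • 𝟙 A)) y
  obtain ⟨T₂, π₂, _, a₀, z, h₁, h₂⟩ := h n a
  refine ⟨T₂, π₂ ≫ π₁, epi_comp _ _, torLift _ a₀ h₂, ?_⟩
  rw [Category.assoc, ha, ← Category.assoc, h₁, Preadditive.add_comp, torLift_ι_assoc,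
    nsmul_comp_cokernel_π, add_zero]

lemma IsStab.exact {A : 𝒜} {b N : ℕ} (n : ℕ) :
    (ShortComplex.mk (rMap A b N n) (kernel.ι (b ^ N • 𝟙 A) ≫ cokernel.π (b ^ n • 𝟙 A))
      (rMap_comp_zero A b N n)).Exact := by
  rw [ShortComplex.exact_iff_exact_up_to_refinements]
  intro T x₂ hx₂
  dsimp at x₂ hx₂
  have hE := (ShortComplex.mk (b ^ n • 𝟙 A) (cokernel.π (b ^ n • 𝟙 A))
    (cokernel.condition _)).exact_of_g_is_cokernel (cokernelIsCokernel _)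
  rw [← Category.assoc] at hx₂
  obtain ⟨T₁, π₁, _, y, hy⟩ := hE.exact_up_to_refinements _ hx₂
  dsimp at y hy
  rw [comp_nsmul_id] at hy
  have hy0 : b ^ (N + n) • y = 0 := by
    rw [pow_add, mul_smul, ← hy, ← Category.assoc, nsmul_comp_torι]
  refine ⟨T₁, π₁, inferInstance, torLift _ y hy0, ?_⟩
  dsimp
  rw [← cancel_mono (kernel.ι (b ^ N • 𝟙 A)), Category.assoc, Category.assoc, rMap_ι,
    Preadditive.comp_nsmul, torLift_ι, hy]

/-- `A / b^n A ≅ coker (b^n : K_{b^(N+n)} ⟶ K_{b^N})` -/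
noncomputable def IsStab.cokernelIso {A : 𝒜} {b N : ℕ} (h : IsStab A b N) (n : ℕ) :
    cokernel (rMap A b N n) ≅ cokernel (b ^ n • 𝟙 A) :=
  haveI := h.epi n
  IsColimit.coconePointUniqueUpToIso (colimit.isColimit _) (IsStab.exact (N := N) n).gIsCokernel

end Abstract

end Groth.Agent.Lib.Helper2.IndCof
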