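import Groth.Agent.Lib.Helper2.IndCof.KerCoker

set_option autoImplicit false
universe v u

namespace Groth.Agent.Lib.Helper2.IndCof

open CategoryTheory CategoryTheory.Limits

section Abstract
variable {𝒜 : Type u} [Category.{v} 𝒜] [Abelian 𝒜]

lemma imageSubobject_epi_comp' {X Y Z : 𝒜} (e : X ⟶ Y) [Epi e] (g : Y ⟶ Z) :
    imageSubobject (e ≫ g) = imageSubobject g := by
  apply le_antisymm (imageSubobject_comp_le _ _)
  apply le_of_forall_factors
  intro T x hx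
  rw [image_factors_iff] at hx ⊢
  obtain ⟨T₁, π₁, _, y, hy⟩ := hx
  obtain ⟨T₂, π₂, _, y', hy'⟩ := surjective_up_to_refinements_of_epi e y
  exact ⟨T₂, π₂ ≫ π₁, epi_comp _ _, y', by rw [Category.assoc, hy, reassoc_of% hy']⟩

variable {A : 𝒜}

/-- the "divisible part" `b^N S` of a subobject -/
noncomputable def Dsub (S : Subobject A) (b N : ℕ) : Subobject A :=
  imageSubobject (b ^ N • S.arrow)

lemma D_factors_iff (S : Subobject A) (b N : ℕ) {T : 𝒜} (x : T ⟶ A) :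
    (Dsub S b N).Factors x ↔
      ∃ (T' : 𝒜) (π : T' ⟶ T) (_ : Epi π) (s : T' ⟶ (S : 𝒜)), π ≫ x = b ^ N • (s ≫ S.arrow) := by
  rw [Dsub, image_factors_iff]
  simp only [Preadditive.comp_nsmul]

lemma D1 {S : Subobject A} {b N : ℕ} (h : IsStab (S : 𝒜) b N) {T : 𝒜} {x : T ⟶ A}
    (hx : (Dsub S b N).Factors x) (j : ℕ) :
    ∃ (T' : 𝒜) (π : T' ⟶ T) (_ : Epi π) (s : T' ⟶ (S : 𝒜)),
      π ≫ x = b ^ (N + j) • (s ≫ S.arrow) := by
  rw [D_factors_iff] at hx
  obtain ⟨T₁, π₁, _, s, hs⟩ := hx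
  obtain ⟨T₂, π₂, _, s₀, ζ, h₁, h₂⟩ := h j s
  refine ⟨T₂, π₂ ≫ π₁, epi_comp _ _, ζ, ?_⟩
  rw [Category.assoc, hs, Preadditive.comp_nsmul, ← Category.assoc, h₁, Preadditive.add_comp,
    smul_add, ← Preadditive.nsmul_comp, h₂, zero_comp, zero_add, Preadditive.nsmul_comp,
    ← mul_smul, ← pow_add]

lemma D2 {S S' : Subobject A} (hle : S' ≤ S) {b N N' : ℕ} (h' : IsStab (S' : 𝒜) b N') :
    Dsub S' b N' ≤ Dsub S b N := by
  apply le_of_forall_factors
  intro T x hx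
  obtain ⟨T₁, π₁, _, s, hs⟩ := D1 h' hx N
  rw [D_factors_iff]
  refine ⟨T₁, π₁, inferInstance, b ^ N' • (s ≫ Subobject.ofLE _ _ hle), ?_⟩
  rw [hs, Preadditive.nsmul_comp, Category.assoc, Subobject.ofLE_arrow, ← mul_smul, ← pow_add,
    add_comm]

lemma D3 {S : Subobject A} {b N : ℕ} (h : IsStab (S : 𝒜) b N) {T : 𝒜} {x : T ⟶ A}
    (hx : (Dsub S b N).Factors x) (k : ℕ) :
    ∃ (T' : 𝒜) (π : T' ⟶ T) (_ : Epi π) (y : T' ⟶ A),
      (Dsub S b N).Factors y ∧ π ≫ x = b ^ k • y := by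
  obtain ⟨T₁, π₁, _, s, hs⟩ := D1 h hx k
  refine ⟨T₁, π₁, inferInstance, b ^ N • (s ≫ S.arrow), ?_, ?_⟩
  · rw [D_factors_iff]
    exact ⟨T₁, 𝟙 _, inferInstance, s, by simp⟩
  · rw [hs, ← mul_smul, ← pow_add, add_comm]

lemma D4 (S : Subobject A) (b N : ℕ) : Dsub S b N ≤ S := by
  apply le_of_forall_factors
  intro T x hx
  rw [D_factors_iff] at hx
  obtain ⟨T₁, π₁, _, s, hs⟩ := hx
  apply factors_of_epi_comp S π₁
  rw [hs]
  exact factors_nsmul _ _ _ (S.factors_comp_arrow s)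

/-- `b^N : S[b^(N+1)] ⟶ A[b]` -/
noncomputable def eMap (S : Subobject A) (b N : ℕ) :
    kernel (b ^ (N + 1) • 𝟙 (S : 𝒜)) ⟶ kernel (b ^ 1 • 𝟙 A) :=
  torLift (b ^ 1) (b ^ N • (kernel.ι (b ^ (N + 1) • 𝟙 (S : 𝒜)) ≫ S.arrow)) (by
    rw [← mul_smul, ← pow_add, add_comm 1 N, ← Preadditive.nsmul_comp, nsmul_torι, zero_comp])

@[reassoc (attr := simp)]
lemma eMap_ι (S : Subobject A) (b N : ℕ) :
    eMap S b N ≫ kernel.ι (b ^ 1 • 𝟙 A) =
      b ^ N • (kernel.ι (b ^ (N + 1) • 𝟙 (S : 𝒜)) ≫ S.arrow) := by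
  simp [eMap]

noncomputable def Esub (S : Subobject A) (b N : ℕ) : Subobject (kernel (b ^ 1 • 𝟙 A)) :=
  imageSubobject (eMap S b N)

lemma E1 (S : Subobject A) (b N : ℕ) {T : 𝒜} (x : T ⟶ kernel (b ^ 1 • 𝟙 A)) :
    (Esub S b N).Factors x ↔ (Dsub S b N).Factors (x ≫ kernel.ι _) := by
  rw [Esub, image_factors_iff, D_factors_iff]
  constructor
  · rintro ⟨T₁, π₁, hπ, s', hs'⟩
    refine ⟨T₁, π₁, hπ, s' ≫ kernel.ι _, ?_⟩
    have := congrArg (· ≫ kernel.ι (b ^ 1 • 𝟙 A)) hs'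
    simpa [Preadditive.comp_nsmul] using this
  · rintro ⟨T₁, π₁, hπ, s, hs⟩
    have h0 : b ^ (N + 1) • s = 0 := by
      have e : b ^ (N + 1) = b ^ 1 * b ^ N := by rw [pow_one, pow_succ']
      rw [← cancel_mono S.arrow, zero_comp, Preadditive.nsmul_comp, e, mul_smul, ← hs,
        ← Category.assoc]
      exact nsmul_comp_torι _ _
    refine ⟨T₁, π₁, hπ, torLift _ s h0, ?_⟩
    rw [← cancel_mono (kernel.ι (b ^ 1 • 𝟙 A)), Category.assoc, Category.assoc, eMap_ι,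
      Preadditive.comp_nsmul, torLift_ι_assoc, hs]

lemma E_le {S S' : Subobject A} (hle : S' ≤ S) {b N N' : ℕ} (h' : IsStab (S' : 𝒜) b N') :
    Esub S' b N' ≤ Esub S b N := by
  apply le_of_forall_factors
  intro T x hx
  rw [E1] at hx ⊢
  exact Subobject.factors_of_le _ (D2 hle h') hx

/-- torsion elements of the bigger divisible part lie in the smaller one, if the `b`-torsion agrees -/
lemma D5 {S S' : Subobject A} (hle : S' ≤ S) {b N N' : ℕ} (h : IsStab (S : 𝒜) b N)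
    (h' : IsStab (S' : 𝒜) b N') (hE : Esub S b N = Esub S' b N') :
    ∀ (k : ℕ) {T : 𝒜} (x : T ⟶ A), (Dsub S b N).Factors x → b ^ k • x = 0 →
      (Dsub S' b N').Factors x := by
  intro k
  induction k with
  | zero =>
    intro T x _ hx0
    rw [pow_zero, one_smul] at hx0
    rw [hx0]
    exact Subobject.factors_zero
  | succ k ih =>
    intro T x hx hx0
    have h1 : b ^ 1 • (b ^ k • x) = 0 := by rw [← mul_smul, ← pow_add, add_comm, hx0]
    have h2 : (Dsub S b N).Factors (torLift _ _ h1 ≫ kernel.ι (b ^ 1 • 𝟙 A)) := by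
      rw [torLift_ι]
      exact factors_nsmul _ _ _ hx
    rw [← E1, hE, E1, torLift_ι] at h2
    obtain ⟨T₁, π₁, _, y, hy, hxy⟩ := D3 h' h2 k
    have h3 : (Dsub S' b N').Factors (π₁ ≫ x - y) := by
      apply ih
      · exact factors_sub _ _ _ (Subobject.factors_of_factors_right _ hx)
          (Subobject.factors_of_le _ (D2 hle h') hy)
      · rw [smul_sub, ← hxy, Preadditive.comp_nsmul, sub_self]
    apply factors_of_epi_comp _ π₁
    have : π₁ ≫ x = (π₁ ≫ x - y) + y := by abel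
    rw [this]
    exact Subobject.factors_add _ _ h3 hy

section Step2
variable (S₂ : Subobject A) (b N₂ : ℕ)

noncomputable def tMap (S' : Subobject A) (hle : S' ≤ S₂) :
    (S' : 𝒜) ⟶ cokernel (b ^ N₂ • 𝟙 (S₂ : 𝒜)) :=
  Subobject.ofLE _ _ hle ≫ cokernel.π _

lemma t_kills {S' : Subobject A} (hle : S' ≤ S₂) {N' : ℕ}
    (hD : Dsub S' b N' ≤ Dsub S₂ b N₂) :
    (b ^ N' • 𝟙 (S' : 𝒜)) ≫ tMap S₂ b N₂ S' hle = 0 := by
  have h1 : (Dsub S' b N').Factors (b ^ N' • S'.arrow) := by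
    have := imageSubobject_factors_comp_self (b ^ N' • S'.arrow) (𝟙 _)
    rwa [Category.id_comp] at this
  have h2 := Subobject.factors_of_le _ hD h1
  rw [D_factors_iff] at h2
  obtain ⟨T₁, π₁, _, s, hs⟩ := h2
  have h3 : π₁ ≫ (b ^ N' • 𝟙 (S' : 𝒜)) ≫ Subobject.ofLE _ _ hle = b ^ N₂ • s := by
    rw [← cancel_mono S₂.arrow]
    simp only [Category.assoc, Subobject.ofLE_arrow, Preadditive.nsmul_comp, Category.id_comp]
    exact hs
  rw [← cancel_epi π₁, comp_zero, tMap, reassoc_of% h3, nsmul_comp_cokernel_π]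

lemma step3 {S' S'' : Subobject A} (hle' : S' ≤ S₂) (hle'' : S'' ≤ S₂)
    (hD : Dsub S₂ b N₂ ≤ S'')
    (hI : imageSubobject (tMap S₂ b N₂ S' hle') ≤ imageSubobject (tMap S₂ b N₂ S'' hle'')) :
    S' ≤ S'' := by
  apply le_of_forall_factors
  intro T x hx
  have h1 := Subobject.factors_of_le _ hI
    (imageSubobject_factors_comp_self (tMap S₂ b N₂ S' hle') (S'.factorThru x hx))
  rw [image_factors_iff] at h1
  obtain ⟨T₁, π₁, _, s', hs'⟩ := h1
  have hE := ShortComplex.exact_of_g_is_cokernel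
    (ShortComplex.mk _ _ (cokernel.condition (b ^ N₂ • 𝟙 (S₂ : 𝒜)))) (cokernelIsCokernel _)
  have h2 : (π₁ ≫ S'.factorThru x hx ≫ Subobject.ofLE _ _ hle' - s' ≫ Subobject.ofLE _ _ hle'') ≫
      cokernel.π (b ^ N₂ • 𝟙 (S₂ : 𝒜)) = 0 := by
    rw [Preadditive.sub_comp, sub_eq_zero]
    simpa [tMap] using hs'
  obtain ⟨T₂, π₂, _, s'', hs''⟩ := hE.exact_up_to_refinements _ h2
  dsimp at s'' hs''
  have h3 : π₂ ≫ (π₁ ≫ x - s' ≫ S''.arrow) = b ^ N₂ • (s'' ≫ S₂.arrow) := by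
    have := congrArg (· ≫ S₂.arrow) hs''
    simpa [Preadditive.sub_comp, Preadditive.comp_nsmul, Preadditive.nsmul_comp] using this
  have h4 : S''.Factors (π₂ ≫ (π₁ ≫ x - s' ≫ S''.arrow)) := by
    rw [h3]
    apply Subobject.factors_of_le _ hD
    rw [D_factors_iff]
    exact ⟨T₂, 𝟙 _, inferInstance, s'', by simp⟩
  have h5 : S''.Factors (π₂ ≫ s' ≫ S''.arrow) := by
    rw [← Category.assoc]
    exact S''.factors_comp_arrow _
  apply factors_of_epi_comp _ π₁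
  apply factors_of_epi_comp _ π₂
  have : π₂ ≫ π₁ ≫ x = π₂ ≫ (π₁ ≫ x - s' ≫ S''.arrow) + π₂ ≫ s' ≫ S''.arrow := by
    simp [Preadditive.comp_sub]
  rw [this]
  exact Subobject.factors_add _ _ h4 h5

end Step2

end Abstract

section IndPart
variable {C : Type v} [SmallCategory C] [Abelian C]

lemma le_of_forall_yoneda_factors {A : Ind C} (S S' : Subobject A)
    (h : ∀ (X : C) (x : (Ind.yoneda (C := C)).obj X ⟶ A), S.Factors x → S'.Factors x) :
    S ≤ S' := by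
  have hK : IsLimit (KernelFork.ofι S'.arrow (cokernel.condition S'.arrow)) :=
    Abelian.monoIsKernelOfCokernel _ (colimit.isColimit _)
  have h0 : S.arrow ≫ cokernel.π S'.arrow = 0 := by
    apply eq_zero_of_forall_yoneda
    intro X x
    have := h X (x ≫ S.arrow) (S.factors_comp_arrow x)
    rw [← Category.assoc, ← S'.factorThru_arrow _ this, Category.assoc, cokernel.condition,
      comp_zero]
  exact Subobject.le_of_comm (hK.lift (KernelFork.ofι _ h0)) (hK.fac _ WalkingParallelPair.zero)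

theorem chain_cof_stabilizes (hart : ∀ X : C, IsArtinianObject X) {p : ℕ}
    (htor : ∀ X : C, ∃ n : ℕ, (p ^ n) • 𝟙 X = 0) {A : Ind C} (hA : Cof p A)
    (S : ℕ → Subobject A) (hS : Antitone S)
    (hcof : ∀ m, Cof p ((S m : Subobject A) : Ind C)) :
    ∃ N : ℕ, ∀ m : ℕ, N ≤ m → S m = S N := by
  have hb := genTor_of_pow_torsion p htor
  choose N hN using fun m => exists_isStab hart hb (hcof m)
  obtain ⟨m₂, hm₂⟩ := chain_stabilizes hart (hA 1) (fun m => Esub (S m) p (N m))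
    (fun m m' h => E_le (hS h) (hN m'))
    (fun m => essImage_imageSubobject (hcof m (N m + 1)) (hA 1) _)
  have hD : ∀ m, m₂ ≤ m → Dsub (S m₂) p (N m₂) ≤ Dsub (S m) p (N m) := by
    intro m hm
    apply le_of_forall_yoneda_factors
    intro X x hx
    obtain ⟨k, hk⟩ := htor X
    have hx0 : p ^ k • x = 0 := by
      have : p ^ k • x = (Ind.yoneda (C := C)).map (p ^ k • 𝟙 X) ≫ x := by
        rw [Functor.map_nsmul, CategoryTheory.Functor.map_id, Preadditive.nsmul_comp,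
          Category.id_comp]
      rw [this, hk, Functor.map_zero, zero_comp]
    exact D5 (hS hm) (hN m₂) (hN m) (hm₂ m hm).symm k x hx hx0
  have hP := essImage_cokernel_pow hart hb (hcof m₂) (N m₂)
  have hle : ∀ j, S (m₂ + j) ≤ S m₂ := fun j => hS (Nat.le_add_right _ _)
  obtain ⟨j₃, hj₃⟩ := chain_stabilizes hart hP
    (fun j => imageSubobject (tMap (S m₂) p (N m₂) (S (m₂ + j)) (hle j)))
    (by
      intro j j' hjj'
      have : tMap (S m₂) p (N m₂) (S (m₂ + j')) (hle j') =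
          Subobject.ofLE _ _ (hS (Nat.add_le_add_left hjj' m₂)) ≫
            tMap (S m₂) p (N m₂) (S (m₂ + j)) (hle j) := by
        simp [tMap]
      dsimp only
      rw [this]
      exact imageSubobject_comp_le _ _)
    (by
      intro j
      have hk := t_kills (S m₂) p (N m₂) (hle j) (N' := N (m₂ + j))
        (D2 (hle j) (hN _))
      have : tMap (S m₂) p (N m₂) (S (m₂ + j)) (hle j) =
          cokernel.π (p ^ N (m₂ + j) • 𝟙 ((S (m₂ + j) : Subobject A) : Ind C)) ≫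
            cokernel.desc _ _ hk := by simp
      rw [this, imageSubobject_epi_comp']
      exact essImage_imageSubobject (essImage_cokernel_pow hart hb (hcof _) _) hP _)
  refine ⟨m₂ + j₃, fun m hm => le_antisymm (hS hm) ?_⟩
  obtain ⟨j, rfl⟩ := Nat.exists_eq_add_of_le hm
  have e1 : m₂ + j₃ + j = m₂ + (j₃ + j) := by omega
  rw [e1]
  refine step3 (S m₂) p (N m₂) (hle j₃) (hle (j₃ + j))
    ((hD _ (Nat.le_add_right _ _)).trans (D4 _ _ _)) (le_of_eq (hj₃ (j₃ + j) (by omega)).symm)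

end IndPart

end Groth.Agent.Lib.Helper2.IndCof
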