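import Groth.Agent.Lib.Helper2.IndCof.Chain

set_option autoImplicit false
universe v u

namespace Groth.Agent.Lib.Helper2.IndCof

open CategoryTheory CategoryTheory.Limits

section Abstract
variable {𝒜 : Type u} [Category.{v} 𝒜] [Abelian 𝒜]

/-- membership in a subobject via its cokernel -/
lemma factors_of_comp_cokernel_eq_zero {A T : 𝒜} (S : Subobject A) (x : T ⟶ A)
    (h : x ≫ cokernel.π S.arrow = 0) : S.Factors x := by
  have hK : IsLimit (KernelFork.ofι S.arrow (cokernel.condition S.arrow)) :=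
    Abelian.monoIsKernelOfCokernel _ (colimit.isColimit _)
  have : x = hK.lift (KernelFork.ofι _ h) ≫ S.arrow :=
    (hK.fac (KernelFork.ofι _ h) WalkingParallelPair.zero).symm
  rw [this]
  exact S.factors_comp_arrow _

lemma comp_cokernel_eq_zero_of_factors {A T : 𝒜} (S : Subobject A) (x : T ⟶ A)
    (h : S.Factors x) : x ≫ cokernel.π S.arrow = 0 := by
  rw [← S.factorThru_arrow x h, Category.assoc, cokernel.condition, comp_zero]

/-- if `image (k*m) = image m` then `k` is epi on `image m` -/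
lemma epi_nsmul_image {A : 𝒜} (k m : ℕ)
    (h : imageSubobject ((m * k) • 𝟙 A) = imageSubobject (m • 𝟙 A)) :
    Epi (k • 𝟙 ((imageSubobject (m • 𝟙 A) : Subobject A) : 𝒜)) := by
  rw [epi_iff_surjective_up_to_refinements]
  intro T x
  obtain ⟨x', hx'⟩ : ∃ x' : T ⟶ A, x' = x ≫ (imageSubobject (m • 𝟙 A)).arrow := ⟨_, rfl⟩
  have hx : (imageSubobject (m • 𝟙 A)).Factors x' := by
    rw [hx']; exact Subobject.factors_comp_arrow x
  rw [← h, image_factors_iff] at hx
  obtain ⟨T₁, π₁, hπ, y, hy⟩ := hx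
  rw [hx'] at hy
  refine ⟨T₁, π₁, hπ, y ≫ factorThruImageSubobject (m • 𝟙 A), ?_⟩
  rw [← cancel_mono (imageSubobject (m • 𝟙 A)).arrow, Category.assoc, hy, Category.assoc,
    Category.assoc, Preadditive.nsmul_comp, Category.id_comp, Preadditive.comp_nsmul,
    Preadditive.comp_nsmul, imageSubobject_arrow_comp, Preadditive.comp_nsmul,
    Preadditive.comp_nsmul, Category.comp_id, mul_smul, smul_comm]

/-- a `k`-divisible subobject is contained in `k^j A`; more generally in `m A` if `m`-divisible -/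
lemma le_image_of_epi {A : 𝒜} (D : Subobject A) (m : ℕ) (h : Epi (m • 𝟙 (D : 𝒜))) :
    D ≤ imageSubobject (m • 𝟙 A) := by
  apply le_of_forall_factors
  intro T x hx
  rw [image_factors_iff]
  obtain ⟨T₁, π₁, hπ, y, hy⟩ := surjective_up_to_refinements_of_epi (m • 𝟙 (D : 𝒜))
    (D.factorThru x hx)
  refine ⟨T₁, π₁, hπ, y ≫ D.arrow, ?_⟩
  have := congrArg (· ≫ D.arrow) hy
  simpa [Preadditive.comp_nsmul, Preadditive.nsmul_comp] using this

lemma epi_pow_nsmul {X : 𝒜} (k : ℕ) (h : Epi (k • 𝟙 X)) (j : ℕ) : Epi (k ^ j • 𝟙 X) := by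
  induction j with
  | zero => rw [pow_zero, one_smul]; infer_instance
  | succ j ih =>
    have : k ^ (j + 1) • 𝟙 X = (k ^ j • 𝟙 X) ≫ (k • 𝟙 X) := by
      rw [comp_nsmul_id, ← mul_smul, pow_succ']
    rw [this]
    exact epi_comp _ _

end Abstract

section IndPart
variable {C : Type v} [SmallCategory C] [Abelian C]

lemma Cof.of_iso {b : ℕ} {A A' : Ind C} (e : A ≅ A') (h : Cof b A) : Cof b A' := fun m =>
  Functor.essImage.ofIso (kernel.mapIso _ _ e e
    (by simp [Preadditive.comp_nsmul, Preadditive.nsmul_comp])) (h m)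

lemma cof_imageSubobject (hart : ∀ X : C, IsArtinianObject X) {b : ℕ} (hb : GenTor C b)
    {A B : Ind C} (hA : Cof b A) (hB : Cof b B) (f : A ⟶ B) :
    Cof b ((imageSubobject f : Subobject B) : Ind C) :=
  Cof.of_iso ((Abelian.imageIsoImage f) ≪≫ (imageSubobjectIso f).symm)
    (cof_kernel hB (cof_cokernel hart hb hA hB f) (cokernel.π f))

lemma nsmul_id_eq_zero_of_essImage {p : ℕ} (htor : ∀ X : C, ∃ n : ℕ, (p ^ n) • 𝟙 X = 0)
    {Q : Ind C} (hQ : (Ind.yoneda (C := C)).essImage Q) : ∃ k : ℕ, p ^ k • 𝟙 Q = 0 := by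
  obtain ⟨X, ⟨e⟩⟩ := hQ
  obtain ⟨k, hk⟩ := htor X
  refine ⟨k, ?_⟩
  have : p ^ k • 𝟙 Q = e.inv ≫ (Ind.yoneda (C := C)).map (p ^ k • 𝟙 X) ≫ e.hom := by
    rw [Functor.map_nsmul, CategoryTheory.Functor.map_id, Preadditive.nsmul_comp,
      Preadditive.comp_nsmul, Category.id_comp, Iso.inv_hom_id]
  rw [this, hk, Functor.map_zero, zero_comp, comp_zero]

theorem divisiblePart (hart : ∀ X : C, IsArtinianObject X) {p : ℕ}
    (htor : ∀ X : C, ∃ n : ℕ, (p ^ n) • 𝟙 X = 0) {A : Ind C} (hA : Cof p A) (N : ℕ)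
    (hN : ∀ n : ℕ, N ≤ n → imageSubobject ((p ^ n) • 𝟙 A) = imageSubobject ((p ^ N) • 𝟙 A)) :
    Cof p ((imageSubobject ((p ^ N) • 𝟙 A) : Subobject A) : Ind C) ∧
      Epi (p • 𝟙 ((imageSubobject ((p ^ N) • 𝟙 A) : Subobject A) : Ind C)) ∧
      (∀ D : Subobject A, Epi (p • 𝟙 (D : Ind C)) → D ≤ imageSubobject ((p ^ N) • 𝟙 A)) ∧
      (∀ (Q : Ind C) (q : A ⟶ Q), Epi q → (Ind.yoneda (C := C)).essImage Q →
        (imageSubobject ((p ^ N) • 𝟙 A)).arrow ≫ q = 0) := by
  have hb := genTor_of_pow_torsion p htor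
  refine ⟨cof_imageSubobject hart hb hA hA _, ?_, ?_, ?_⟩
  · apply epi_nsmul_image
    rw [← pow_succ]
    exact hN (N + 1) (by omega)
  · intro D hD
    exact le_image_of_epi D _ (epi_pow_nsmul p hD N)
  · intro Q q _ hQ
    obtain ⟨k, hk⟩ := nsmul_id_eq_zero_of_essImage htor hQ
    have key : ∀ {T : Ind C} (x' : T ⟶ A),
        (imageSubobject ((p ^ N) • 𝟙 A)).Factors x' → x' ≫ q = 0 := by
      intro T x' hx
      rw [← hN (N + k) (by omega), image_factors_iff] at hx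
      obtain ⟨T₁, π₁, _, y, hy⟩ := hx
      rw [← cancel_epi π₁, comp_zero, reassoc_of% hy]
      have : (p ^ (N + k) • 𝟙 A) ≫ q = q ≫ (p ^ N • (p ^ k • 𝟙 Q)) := by
        rw [← mul_smul, ← pow_add]
        simp [Preadditive.comp_nsmul, Preadditive.nsmul_comp]
      rw [this, hk, smul_zero, comp_zero, comp_zero]
    apply key
    have := (imageSubobject ((p ^ N) • 𝟙 A)).factors_comp_arrow (𝟙 _)
    rwa [Category.id_comp] at this

end IndPart

end Groth.Agent.Lib.Helper2.IndCof
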