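import Groth.Agent.Lib.Helper2.IndCof.Basic

set_option autoImplicit false
universe v

namespace Groth.Agent.Lib.Helper2.IndCof

open CategoryTheory CategoryTheory.Limits

section IndPart
variable {C : Type v} [SmallCategory C] [Abelian C]

instance : (Ind.yoneda (C := C)).Additive :=
  Functor.additive_of_preserves_binary_products _

lemma essImage_cokernel {R P : Ind C} (hR : (Ind.yoneda (C := C)).essImage R)
    (hP : (Ind.yoneda (C := C)).essImage P) (r : R ⟶ P) :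
    (Ind.yoneda (C := C)).essImage (cokernel r) := by
  obtain ⟨Y, ⟨e₂⟩⟩ := hR
  obtain ⟨X, ⟨e₁⟩⟩ := hP
  let g : Y ⟶ X := (Ind.yoneda (C := C)).preimage (e₂.hom ≫ r ≫ e₁.inv)
  have hg : (Ind.yoneda (C := C)).map g = e₂.hom ≫ r ≫ e₁.inv := Functor.map_preimage _ _
  refine ⟨cokernel g, ⟨PreservesCokernel.iso _ g ≪≫
    cokernel.mapIso _ r e₂ e₁ (by rw [hg]; simp)⟩⟩

lemma essImage_kernel {R P : Ind C} (hR : (Ind.yoneda (C := C)).essImage R)
    (hP : (Ind.yoneda (C := C)).essImage P) (r : R ⟶ P) :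
    (Ind.yoneda (C := C)).essImage (kernel r) := by
  obtain ⟨Y, ⟨e₂⟩⟩ := hR
  obtain ⟨X, ⟨e₁⟩⟩ := hP
  let g : Y ⟶ X := (Ind.yoneda (C := C)).preimage (e₂.hom ≫ r ≫ e₁.inv)
  have hg : (Ind.yoneda (C := C)).map g = e₂.hom ≫ r ≫ e₁.inv := Functor.map_preimage _ _
  refine ⟨kernel g, ⟨PreservesKernel.iso _ g ≪≫
    kernel.mapIso _ r e₂ e₁ (by rw [hg]; simp)⟩⟩

lemma essImage_imageSubobject {R P : Ind C} (hR : (Ind.yoneda (C := C)).essImage R)
    (hP : (Ind.yoneda (C := C)).essImage P) (r : R ⟶ P) :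
    (Ind.yoneda (C := C)).essImage ((imageSubobject r : Subobject P) : Ind C) := by
  have h1 := essImage_kernel hP (essImage_cokernel hR hP r) (cokernel.π r)
  exact Functor.essImage.ofIso ((Abelian.imageIsoImage r) ≪≫ (imageSubobjectIso r).symm) h1

lemma eq_zero_of_forall_yoneda {A Z : Ind C} (h : A ⟶ Z)
    (H : ∀ (X : C) (x : (Ind.yoneda (C := C)).obj X ⟶ A), x ≫ h = 0) : h = 0 := by
  apply Ind.isSeparating_range_yoneda h 0
  rintro G ⟨X⟩ x
  rw [H X x, comp_zero]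

/-- Artinian transfer -/
lemma chain_stabilizes (hart : ∀ X : C, IsArtinianObject X) {P : Ind C}
    (hP : (Ind.yoneda (C := C)).essImage P) (S : ℕ → Subobject P) (hS : Antitone S)
    (hSC : ∀ m, (Ind.yoneda (C := C)).essImage ((S m : Subobject P) : Ind C)) :
    ∃ N : ℕ, ∀ m : ℕ, N ≤ m → S m = S N := by
  obtain ⟨X, ⟨e⟩⟩ := hP
  choose Y hY using hSC
  let eY : ∀ m, (Ind.yoneda (C := C)).obj (Y m) ≅ ((S m : Subobject P) : Ind C) :=
    fun m => (hY m).some
  let f : ∀ m, Y m ⟶ X := fun m =>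
    (Ind.yoneda (C := C)).preimage ((eY m).hom ≫ (S m).arrow ≫ e.inv)
  have hf : ∀ m, (Ind.yoneda (C := C)).map (f m) = (eY m).hom ≫ (S m).arrow ≫ e.inv :=
    fun m => Functor.map_preimage _ _
  have hmono : ∀ m, Mono (f m) := by
    intro m
    apply (Ind.yoneda (C := C)).mono_of_mono_map
    rw [hf]
    infer_instance
  let T : ℕ → Subobject X := fun m => Subobject.mk (f m)
  have hT : Antitone T := by
    intro m m' hmm'
    let g : Y m' ⟶ Y m := (Ind.yoneda (C := C)).preimage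
      ((eY m').hom ≫ Subobject.ofLE _ _ (hS hmm') ≫ (eY m).inv)
    refine Subobject.mk_le_mk_of_comm g ?_
    apply (Ind.yoneda (C := C)).map_injective
    rw [Functor.map_comp, hf, hf]
    simp [g]
  haveI := hart X
  obtain ⟨N, hN⟩ := antitone_chain_condition_of_isArtinianObject
    (⟨fun m => OrderDual.toDual (T m), fun m m' h => hT h⟩ : ℕ →o (Subobject X)ᵒᵈ)
  refine ⟨N, fun m hm => le_antisymm (hS hm) ?_⟩
  have h1 : T N ≤ T m := le_of_eq (congrArg OrderDual.ofDual (hN m hm))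
  let k : Y N ⟶ Y m := Subobject.ofMkLEMk (f N) (f m) h1
  have hk : k ≫ f m = f N := Subobject.ofMkLEMk_comp h1
  refine Subobject.le_of_comm ((eY N).inv ≫ (Ind.yoneda (C := C)).map k ≫ (eY m).hom) ?_
  have h2 : (eY m).hom ≫ (S m).arrow = (Ind.yoneda (C := C)).map (f m) ≫ e.hom := by
    rw [hf]; simp
  have h3 : (eY N).hom ≫ (S N).arrow = (Ind.yoneda (C := C)).map (f N) ≫ e.hom := by
    rw [hf]; simp
  rw [Category.assoc, Category.assoc, h2, ← Functor.map_comp_assoc, hk, ← h3]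
  simp

/-- cofinite type with respect to the base `b` -/
def Cof (b : ℕ) (A : Ind C) : Prop :=
  ∀ m : ℕ, (Ind.yoneda (C := C)).essImage (kernel (b ^ m • 𝟙 A))

variable (C) in
/-- every object of `C` splits as (`b`-power torsion) + (`b^j`-divisible) -/
def GenTor (b : ℕ) : Prop :=
  ∀ (X : C) (j : ℕ), ∃ (m : ℕ) (e f : X ⟶ X), e + b ^ j • f = 𝟙 X ∧ b ^ m • e = 0

theorem exists_isStab (hart : ∀ X : C, IsArtinianObject X) {b : ℕ} (hb : GenTor C b)
    {A : Ind C} (hA : Cof b A) : ∃ N, IsStab A b N := by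
  obtain ⟨N, hN⟩ := chain_stabilizes hart (hA 1) (fun m => imageSubobject (uMap A b m))
    (image_uMap_antitone A b) (fun m => essImage_imageSubobject (hA (m + 1)) (hA 1) _)
  have h1 : ∀ m, N ≤ m → P1 A b m := fun m hm =>
    P1_of_image_eq A b m (by
      rw [hN (m + 1) (by omega), hN m hm])
  have hgen : ∀ (n : ℕ) (X : C) (x : (Ind.yoneda (C := C)).obj X ⟶ A),
      ∃ (T' : Ind C) (π : T' ⟶ (Ind.yoneda (C := C)).obj X) (_ : Epi π) (z : T' ⟶ A),
        b ^ N • (π ≫ x) = b ^ (N + n) • z := by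
    intro n X x
    obtain ⟨m, e, f, hef, he⟩ := hb X n
    have hx : x = (Ind.yoneda (C := C)).map e ≫ x +
        b ^ n • ((Ind.yoneda (C := C)).map f ≫ x) := by
      rw [← Preadditive.nsmul_comp, ← Preadditive.add_comp, ← Functor.map_nsmul,
        ← Functor.map_add, hef, CategoryTheory.Functor.map_id, Category.id_comp]
    have hy : b ^ (max m N) • ((Ind.yoneda (C := C)).map e ≫ x) = 0 := by
      have : max m N = (max m N - m) + m := by omega
      rw [this, pow_add, mul_smul, ← Preadditive.nsmul_comp (n := b ^ m), ← Functor.map_nsmul, he,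
        Functor.map_zero, zero_comp, smul_zero]
    obtain ⟨T', π, hπ, z₂, h₂⟩ := Qmn A b N h1 n (max m N) (le_max_right _ _) _ hy
    refine ⟨T', π, hπ, z₂ + π ≫ (Ind.yoneda (C := C)).map f ≫ x, ?_⟩
    conv_lhs => rw [hx]
    rw [Preadditive.comp_add, smul_add, h₂, Preadditive.comp_nsmul, ← mul_smul, ← pow_add,
      smul_add]
  refine ⟨N, fun n => ?_⟩
  have hepi : Epi (biprod.desc (kernel.ι (b ^ N • 𝟙 A)) (b ^ n • 𝟙 A)) := by
    apply Preadditive.epi_of_cancel_zero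
    intro Z h hh
    have h₁ : kernel.ι (b ^ N • 𝟙 A) ≫ h = 0 := by
      have := congrArg (biprod.inl ≫ ·) hh
      simpa using this
    have h₂ : (b ^ n • 𝟙 A) ≫ h = 0 := by
      have := congrArg (biprod.inr ≫ ·) hh
      simpa using this
    apply eq_zero_of_forall_yoneda
    intro X x
    obtain ⟨T', π, hπ, z, hz⟩ := hgen n X x
    rw [← cancel_epi π, comp_zero]
    have h0 : b ^ N • (π ≫ x - b ^ n • z) = 0 := by
      rw [smul_sub, hz, ← mul_smul, ← pow_add, sub_self]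
    have : π ≫ x = torLift _ _ h0 ≫ kernel.ι (b ^ N • 𝟙 A) + z ≫ (b ^ n • 𝟙 A) := by
      rw [torLift_ι, comp_nsmul_id]; abel
    rw [← Category.assoc, this, Preadditive.add_comp, Category.assoc, h₁, comp_zero,
      Category.assoc, h₂, comp_zero, add_zero]
  intro T a
  obtain ⟨T', π, hπ, c, hc⟩ := surjective_up_to_refinements_of_epi
    (biprod.desc (kernel.ι (b ^ N • 𝟙 A)) (b ^ n • 𝟙 A)) a
  refine ⟨T', π, hπ, c ≫ biprod.fst ≫ kernel.ι (b ^ N • 𝟙 A), c ≫ biprod.snd, ?_, ?_⟩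
  · rw [hc]
    have : b ^ n • (c ≫ biprod.snd) = (c ≫ biprod.snd) ≫ (b ^ n • 𝟙 A) :=
      (comp_nsmul_id _ _).symm
    rw [this]
    conv_lhs => rw [← Category.comp_id c, ← biprod.total]
    simp only [Preadditive.comp_add, Preadditive.add_comp, Category.assoc, biprod.inl_desc,
      biprod.inr_desc]
  · rw [← Category.assoc, nsmul_comp_torι]

theorem essImage_cokernel_pow (hart : ∀ X : C, IsArtinianObject X) {b : ℕ} (hb : GenTor C b)
    {A : Ind C} (hA : Cof b A) (n : ℕ) :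
    (Ind.yoneda (C := C)).essImage (cokernel (b ^ n • 𝟙 A)) := by
  obtain ⟨N, hN⟩ := exists_isStab hart hb hA
  exact Functor.essImage.ofIso (hN.cokernelIso n)
    (essImage_cokernel (hA (N + n)) (hA N) (rMap A b N n))

theorem image_pow_stabilizes (hart : ∀ X : C, IsArtinianObject X) {b : ℕ} (hb : GenTor C b)
    {A : Ind C} (hA : Cof b A) :
    ∃ N : ℕ, ∀ n : ℕ, N ≤ n →
      imageSubobject (b ^ n • 𝟙 A) = imageSubobject (b ^ N • 𝟙 A) := by
  obtain ⟨N, hN⟩ := exists_isStab hart hb hA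
  refine ⟨N, fun n hn => ?_⟩
  obtain ⟨k, rfl⟩ := Nat.exists_eq_add_of_le hn
  exact hN.image_eq k

lemma genTor_of_pow_torsion (p : ℕ) (htor : ∀ X : C, ∃ n : ℕ, (p ^ n) • 𝟙 X = 0) :
    GenTor C p := by
  intro X j
  obtain ⟨m, hm⟩ := htor X
  exact ⟨m, 𝟙 X, 0, by simp, hm⟩

lemma nat_split (b : ℕ) : ∀ k : ℕ, 0 < k →
    ∃ m k' k'' : ℕ, k = k' * k'' ∧ k' ∣ b ^ m ∧ Nat.Coprime k'' b := by
  intro k
  induction k using Nat.strong_induction_on with
  | _ k ih =>
    intro hk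
    by_cases hc : Nat.Coprime k b
    · exact ⟨0, 1, k, by simp, by simp, hc⟩
    · have hg1 : Nat.gcd k b ≠ 1 := hc
      have hg0 : 0 < Nat.gcd k b := Nat.gcd_pos_of_pos_left _ hk
      obtain ⟨k₁, hk₁⟩ := Nat.gcd_dvd_left k b
      have hk₁0 : 0 < k₁ := by
        rcases Nat.eq_zero_or_pos k₁ with h | h
        · subst h; simp at hk₁; omega
        · exact h
      have hlt : k₁ < k := by
        have : 2 ≤ Nat.gcd k b := by omega
        nlinarith
      obtain ⟨m, k', k'', h1, h2, h3⟩ := ih k₁ hlt hk₁0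
      refine ⟨m + 1, Nat.gcd k b * k', k'', ?_, ?_, h3⟩
      · conv_lhs => rw [hk₁, h1]
        ring
      · rw [pow_succ']
        exact Nat.mul_dvd_mul (Nat.gcd_dvd_right _ _) h2

lemma genTor_of_torsion (htor : ∀ X : C, ∃ n : ℕ, 0 < n ∧ n • 𝟙 X = 0) (b : ℕ) :
    GenTor C b := by
  intro X j
  obtain ⟨k, hk0, hk⟩ := htor X
  obtain ⟨m, k', k'', h1, ⟨t, ht⟩, h3⟩ := nat_split b k hk0
  have hc1 : Nat.Coprime k' k'' := by
    have : Nat.Coprime (b ^ m) k'' := (Nat.Coprime.pow_right m h3).symm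
    exact Nat.Coprime.coprime_dvd_left ⟨t, ht⟩ this
  have hc2 : Nat.Coprime (b ^ j) k'' := (Nat.Coprime.pow_right j h3).symm
  obtain ⟨a, c, hac⟩ := (Nat.isCoprime_iff_coprime.2 hc1)
  obtain ⟨a', c', hac'⟩ := (Nat.isCoprime_iff_coprime.2 hc2)
  have hkz : ((k : ℤ)) • 𝟙 X = 0 := by rw [natCast_zsmul, hk]
  refine ⟨m, (c * k'' : ℤ) • 𝟙 X, (a' * a * k' : ℤ) • 𝟙 X, ?_, ?_⟩
  · rw [← natCast_zsmul _ (b ^ j), ← mul_smul, ← add_smul]
    have : (c * k'' + ((b ^ j : ℕ) : ℤ) * (a' * a * k') : ℤ) = 1 - (a * c') * k := by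
      push_cast at hac' ⊢
      rw [h1]
      push_cast
      linear_combination hac + (a * k') * hac'
    rw [this, sub_smul, mul_smul, hkz, smul_zero, sub_zero, one_smul]
  · rw [← natCast_zsmul _ (b ^ m), ← mul_smul]
    have : (((b ^ m : ℕ) : ℤ) * (c * k'') : ℤ) = (t * c) * k := by
      rw [ht, h1]
      push_cast
      ring
    rw [this, mul_smul, hkz, smul_zero]

end IndPart

end Groth.Agent.Lib.Helper2.IndCof
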