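import Groth.Agent.Lib.Helper2.IndCof.Ind

set_option autoImplicit false
universe v u

namespace Groth.Agent.Lib.Helper2.IndCof

open CategoryTheory CategoryTheory.Limits

section Abstract
variable {𝒜 : Type u} [Category.{v} 𝒜] [Abelian 𝒜]

/-- the map induced on `k`-torsion -/
noncomputable def torMap {A B : 𝒜} (k : ℕ) (f : A ⟶ B) :
    kernel (k • 𝟙 A) ⟶ kernel (k • 𝟙 B) :=
  torLift k (kernel.ι (k • 𝟙 A) ≫ f) (by
    rw [← Preadditive.nsmul_comp, nsmul_torι, zero_comp])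

@[reassoc (attr := simp)]
lemma torMap_ι {A B : 𝒜} (k : ℕ) (f : A ⟶ B) :
    torMap k f ≫ kernel.ι (k • 𝟙 B) = kernel.ι (k • 𝟙 A) ≫ f := by
  simp [torMap]

/-- `(ker f)[k] ≅ ker (A[k] ⟶ B[k])` -/
noncomputable def torKernelIso {A B : 𝒜} (k : ℕ) (f : A ⟶ B) :
    kernel (k • 𝟙 (kernel f)) ≅ kernel (torMap k f) where
  hom := kernel.lift _ (torLift k (kernel.ι (k • 𝟙 (kernel f)) ≫ kernel.ι f) (by
      rw [← Preadditive.nsmul_comp, nsmul_torι, zero_comp])) (by
      rw [← cancel_mono (kernel.ι (k • 𝟙 B))]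
      simp)
  inv := torLift k (kernel.lift f (kernel.ι (torMap k f) ≫ kernel.ι (k • 𝟙 A)) (by
      rw [Category.assoc, ← torMap_ι, kernel.condition_assoc, zero_comp])) (by
      rw [← cancel_mono (kernel.ι f)]
      simp only [Preadditive.nsmul_comp, kernel.lift_ι, zero_comp]
      rw [← Preadditive.comp_nsmul, nsmul_torι, comp_zero])
  hom_inv_id := by
    rw [← cancel_mono (kernel.ι (k • 𝟙 (kernel f))), ← cancel_mono (kernel.ι f)]
    simp
  inv_hom_id := by
    rw [← cancel_mono (kernel.ι (torMap k f)), ← cancel_mono (kernel.ι (k • 𝟙 A))]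
    simp

section Coker
variable {A B : 𝒜} (f : A ⟶ B) (b N N' n : ℕ)

/-- `W = {y ∈ B[b^(N+n)] : b^n y ∈ f(A[b^N])}` -/
noncomputable abbrev Wob : 𝒜 := kernel (rMap B b N n ≫ cokernel.π (torMap (b ^ N) f))

noncomputable abbrev iW : Wob f b N n ⟶ kernel (b ^ (N + n) • 𝟙 B) := kernel.ι _

noncomputable def dN : cokernel (torMap (b ^ N) f) ⟶ cokernel f :=
  cokernel.desc _ (kernel.ι (b ^ N • 𝟙 B) ≫ cokernel.π f) (by
    rw [torMap_ι_assoc, cokernel.condition, comp_zero])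

noncomputable def phi0 : Wob f b N n ⟶ cokernel f :=
  iW f b N n ≫ kernel.ι (b ^ (N + n) • 𝟙 B) ≫ cokernel.π f

lemma nsmul_phi0 : b ^ n • phi0 f b N n = 0 := by
  have h1 : b ^ n • phi0 f b N n =
      (iW f b N n ≫ (rMap B b N n ≫ cokernel.π (torMap (b ^ N) f))) ≫ dN f b N := by
    simp only [phi0, dN, Category.assoc, cokernel.π_desc, rMap_ι_assoc, Preadditive.nsmul_comp,
      Preadditive.comp_nsmul]
  rw [h1, kernel.condition, zero_comp]

noncomputable def phi : Wob f b N n ⟶ kernel (b ^ n • 𝟙 (cokernel f)) :=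
  torLift (b ^ n) (phi0 f b N n) (nsmul_phi0 f b N n)

noncomputable def incl : kernel (b ^ (N + n) • 𝟙 B) ⟶ kernel (b ^ (N' + (N + n)) • 𝟙 B) :=
  torLift _ (kernel.ι _) (by rw [pow_add b N' (N + n), mul_smul, nsmul_torι, smul_zero])

noncomputable def psi : Wob f b N n ⟶ cokernel (torMap (b ^ (N' + (N + n))) f) :=
  iW f b N n ≫ incl b N N' n ≫ cokernel.π _

lemma exact_f : (ShortComplex.mk f (cokernel.π f) (cokernel.condition f)).Exact :=
  ShortComplex.exact_of_g_is_cokernel _ (cokernelIsCokernel f)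

lemma phi_epi (hA : IsStab A b N) : Epi (phi f b N n) := by
  rw [epi_iff_surjective_up_to_refinements]
  intro T zb
  obtain ⟨T₁, π₁, _, β, hβ⟩ := surjective_up_to_refinements_of_epi (cokernel.π f)
    (zb ≫ kernel.ι (b ^ n • 𝟙 (cokernel f)))
  have h0 : (b ^ n • β) ≫ cokernel.π f = 0 := by
    rw [Preadditive.nsmul_comp, ← hβ, ← Category.assoc, nsmul_comp_torι]
  obtain ⟨T₂, π₂, _, α, hα⟩ := (exact_f f).exact_up_to_refinements _ h0
  dsimp at α hα
  obtain ⟨T₃, π₃, _, α₀, ζ, h₁, h₂⟩ := hA n α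
  have hβ' : b ^ n • (π₃ ≫ π₂ ≫ β - ζ ≫ f) = α₀ ≫ f := by
    rw [smul_sub, ← Preadditive.comp_nsmul, ← Preadditive.comp_nsmul, hα, ← Category.assoc π₃,
      h₁, Preadditive.add_comp, Preadditive.nsmul_comp]
    abel
  have hβ0 : b ^ (N + n) • (π₃ ≫ π₂ ≫ β - ζ ≫ f) = 0 := by
    rw [pow_add, mul_smul, hβ', ← Preadditive.nsmul_comp, h₂, zero_comp]
  have hρ : torLift _ _ hβ0 ≫ rMap B b N n = torLift _ α₀ h₂ ≫ torMap (b ^ N) f := by
    rw [← cancel_mono (kernel.ι (b ^ N • 𝟙 B))]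
    simp only [Category.assoc, rMap_ι, Preadditive.comp_nsmul, torLift_ι, torMap_ι,
      torLift_ι_assoc]
    exact hβ'
  refine ⟨T₃, π₃ ≫ π₂ ≫ π₁, inferInstance,
    kernel.lift _ (torLift _ _ hβ0) (by rw [reassoc_of% hρ, cokernel.condition, comp_zero]), ?_⟩
  rw [← cancel_mono (kernel.ι (b ^ n • 𝟙 (cokernel f)))]
  simp only [Category.assoc, phi, torLift_ι, phi0, kernel.lift_ι_assoc, torLift_ι_assoc, hβ,
    Preadditive.sub_comp, cokernel.condition, comp_zero, sub_zero]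

lemma phi_eq_zero_of_psi {T : 𝒜} (x : T ⟶ Wob f b N n) (h : x ≫ psi f b N N' n = 0) :
    x ≫ phi f b N n = 0 := by
  rw [← cancel_mono (kernel.ι (b ^ n • 𝟙 (cokernel f))), zero_comp, Category.assoc, phi,
    torLift_ι]
  have hE := ShortComplex.exact_of_g_is_cokernel
    (ShortComplex.mk _ _ (cokernel.condition (torMap (b ^ (N' + (N + n))) f)))
    (cokernelIsCokernel _)
  have h' : (x ≫ iW f b N n ≫ incl b N N' n) ≫ cokernel.π (torMap (b ^ (N' + (N + n))) f) = 0 := by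
    simpa [psi] using h
  obtain ⟨T₁, π₁, _, y, hy⟩ := hE.exact_up_to_refinements _ h'
  dsimp at y hy
  rw [← cancel_epi π₁, comp_zero]
  have h2 : incl (B := B) b N N' n ≫ kernel.ι _ = kernel.ι _ := by simp [incl]
  have := congrArg (· ≫ kernel.ι _ ≫ cokernel.π f) hy
  simp only [Category.assoc, reassoc_of% h2, torMap_ι_assoc, cokernel.condition, comp_zero] at this
  simpa [phi0] using this

lemma psi_eq_zero_of_phi (hA' : IsStab (kernel f) b N') {T : 𝒜} (x : T ⟶ Wob f b N n)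
    (h : x ≫ phi f b N n = 0) : x ≫ psi f b N N' n = 0 := by
  have h0 : (x ≫ iW f b N n ≫ kernel.ι (b ^ (N + n) • 𝟙 B)) ≫ cokernel.π f = 0 := by
    have := congrArg (· ≫ kernel.ι (b ^ n • 𝟙 (cokernel f))) h
    simpa [phi, phi0] using this
  obtain ⟨T₁, π₁, _, α, hα⟩ := (exact_f f).exact_up_to_refinements _ h0
  dsimp at α hα
  have h1 : (b ^ (N + n) • α) ≫ f = 0 := by
    rw [Preadditive.nsmul_comp, ← hα, ← Category.assoc, ← Category.assoc, nsmul_comp_torι]
  obtain ⟨T₂, π₂, _, α₁₀, ζ, h₁, h₂⟩ := hA' (N + n) (kernel.lift f _ h1)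
  have hM : b ^ (N + n) • (π₂ ≫ α - ζ ≫ kernel.ι f) = α₁₀ ≫ kernel.ι f := by
    have := congrArg (· ≫ kernel.ι f) h₁
    simp only [Category.assoc, kernel.lift_ι, Preadditive.add_comp, Preadditive.nsmul_comp] at this
    rw [smul_sub, ← Preadditive.comp_nsmul, this]
    abel
  have hL : b ^ (N' + (N + n)) • (π₂ ≫ α - ζ ≫ kernel.ι f) = 0 := by
    rw [pow_add, mul_smul, hM, ← Preadditive.nsmul_comp, h₂, zero_comp]
  have key : (π₂ ≫ π₁) ≫ x ≫ iW f b N n ≫ incl b N N' n =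
      torLift _ _ hL ≫ torMap (b ^ (N' + (N + n))) f := by
    rw [← cancel_mono (kernel.ι (b ^ (N' + (N + n)) • 𝟙 B))]
    simp only [Category.assoc, incl, torLift_ι, torMap_ι, torLift_ι_assoc, Preadditive.sub_comp,
      kernel.condition, comp_zero, sub_zero]
    rw [hα]
  rw [← cancel_epi (π₂ ≫ π₁), comp_zero]
  have := congrArg (· ≫ cokernel.π (torMap (b ^ (N' + (N + n))) f)) key
  simpa [psi] using this

lemma kernel_psi_phi : kernel.ι (psi f b N N' n) ≫ phi f b N n = 0 :=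
  phi_eq_zero_of_psi f b N N' n _ (kernel.condition _)

lemma exact_psi_phi (hA' : IsStab (kernel f) b N') :
    (ShortComplex.mk _ _ (kernel_psi_phi f b N N' n)).Exact := by
  rw [ShortComplex.exact_iff_exact_up_to_refinements]
  intro T x hx
  dsimp at x hx
  exact ⟨T, 𝟙 T, inferInstance,
    kernel.lift _ x (psi_eq_zero_of_phi f b N N' n hA' x hx), by simp⟩

/-- `(coker f)[b^n] ≅ coker (ker ψ ⟶ W)` -/
noncomputable def torCokernelIso (hA : IsStab A b N) (hA' : IsStab (kernel f) b N') :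
    cokernel (kernel.ι (psi f b N N' n)) ≅ kernel (b ^ n • 𝟙 (cokernel f)) :=
  haveI := phi_epi f b N n hA
  IsColimit.coconePointUniqueUpToIso (colimit.isColimit _)
    (exact_psi_phi f b N N' n hA').gIsCokernel

end Coker

end Abstract

section IndPart
variable {C : Type v} [SmallCategory C] [Abelian C]

theorem cof_kernel {b : ℕ} {A B : Ind C} (hA : Cof b A) (hB : Cof b B) (f : A ⟶ B) :
    Cof b (kernel f) := fun m =>
  Functor.essImage.ofIso (torKernelIso (b ^ m) f).symm (essImage_kernel (hA m) (hB m) _)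

theorem cof_cokernel (hart : ∀ X : C, IsArtinianObject X) {b : ℕ} (hb : GenTor C b)
    {A B : Ind C} (hA : Cof b A) (hB : Cof b B) (f : A ⟶ B) :
    Cof b (cokernel f) := by
  intro n
  obtain ⟨N, hN⟩ := exists_isStab hart hb hA
  obtain ⟨N', hN'⟩ := exists_isStab hart hb (cof_kernel hA hB f)
  refine Functor.essImage.ofIso (torCokernelIso f b N N' n hN hN') ?_
  have hW : (Ind.yoneda (C := C)).essImage (Wob f b N n) :=
    essImage_kernel (hB _) (essImage_cokernel (hA _) (hB _) _) _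
  exact essImage_cokernel (essImage_kernel hW (essImage_cokernel (hA _) (hB _) _) _) hW _

end IndPart

end Groth.Agent.Lib.Helper2.IndCof
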